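import Groth.Prelude.Def_Mor2
import Groth.Agent.Lib.GrpdEt19.Deg
import Groth.Agent.Lib.MonoFact19.Basic
import Groth.Agent.Lib.FpqcDesc.Basic
import Groth.Agent.Lib.Descend.PointLocal
import Groth.Agent.Lib.NagataCurve13.Basic
import Mathlib.AlgebraicGeometry.ZariskisMainTheorem

/-!
# Degrees of composites of finite locally free morphisms; quotient factorisation
-/

set_option autoImplicit false
set_option backward.isDefEq.respectTransparency.types false
universe u

open CategoryTheory CategoryTheory.Limits AlgebraicGeometry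

noncomputable section

namespace Groth.Agent.BTProj23

theorem finrank_comp_spec {K : Type u} [Field K] {B A : CommRingCat.{u}} (ρ : CommRingCat.of K ⟶ B) (φ : B ⟶ A)
    (hρ : IsFinite (Spec.map ρ)) (hf : IsFinite (Spec.map φ)) (hfl : Flat (Spec.map φ)) (d : ℕ)
    (hd : ∀ y, (Spec.map φ).finrank y = d) (z) :
    (Spec.map φ ≫ Spec.map ρ).finrank z = d * (Spec.map ρ).finrank z := by
  haveI := hρ; haveI := hf; haveI := hfl
  letI := ρ.hom.toAlgebra
  letI := φ.hom.toAlgebra
  letI := (φ.hom.comp ρ.hom).toAlgebra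
  haveI : IsScalarTower K B A := IsScalarTower.of_algebraMap_eq' rfl
  have h1 : ρ.hom.Finite := (IsFinite.SpecMap_iff ρ).1 hρ
  have h2 : φ.hom.Finite := (IsFinite.SpecMap_iff φ).1 hf
  haveI : Module.Finite K B := h1
  haveI : Module.Finite B A := h2
  have h3 : φ.hom.Flat := Flat.SpecMap_iff.1 hfl
  haveI : Module.Flat B A := h3
  haveI : Module.Finite K A := Module.Finite.trans B A
  haveI : IsArtinianRing B := IsArtinianRing.of_finite K B
  have e1 : (Spec.map φ ≫ Spec.map ρ).finrank z = Module.finrank K A := by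
    rw [← Spec.map_comp]
    exact (congrFun (Scheme.Hom.finrank_SpecMap_eq_finrank (f := ρ ≫ φ) (h2.comp h1)
      (RingHom.flat_algebraMap_iff.2 (inferInstanceAs (Module.Flat K A)))) z).trans
      ((congrFun (RingHom.finrank_algebraMap (R := K) (S := A)) z).trans
        (congrFun (Module.rankAtStalk_eq_finrank_of_free (R := K) (M := A)) z))
  have e2 : (Spec.map ρ).finrank z = Module.finrank K B :=
    (congrFun (Scheme.Hom.finrank_SpecMap_eq_finrank (f := ρ) h1
      (RingHom.flat_algebraMap_iff.2 (inferInstanceAs (Module.Flat K B)))) z).trans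
      ((congrFun (RingHom.finrank_algebraMap (R := K) (S := B)) z).trans
        (congrFun (Module.rankAtStalk_eq_finrank_of_free (R := K) (M := B)) z))
  have hB : ∀ p : PrimeSpectrum B, Module.rankAtStalk A p = d := fun p =>
    ((congrFun (Scheme.Hom.finrank_SpecMap_eq_finrank (f := φ) h2 h3) p).trans
      (congrFun (RingHom.finrank_algebraMap (R := B) (S := A)) p)).symm.trans (hd p)
  haveI : Module.FinitePresentation B A := Module.finitePresentation_of_finite B A
  haveI : Module.Projective B A := Module.Flat.projective_of_finitePresentation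
  haveI : Module.Free B A := by
    refine Module.free_of_flat_of_finrank_eq B A d fun P => ?_
    haveI := P.isMaximal
    letI := Ideal.Quotient.field P.1
    have e := Module.rankAtStalk_baseChange (R := B) (M := A) (S := B ⧸ P.1)
      (⟨⊥, Ideal.isPrime_bot⟩ : PrimeSpectrum (B ⧸ P.1))
    rw [hB, Module.rankAtStalk_eq_finrank_of_free] at e
    simpa using e
  rw [e1, e2]
  rcases subsingleton_or_nontrivial B with hB' | hB'
  · haveI : Subsingleton A := Module.subsingleton B A
    rw [Module.finrank_zero_of_subsingleton (R := K) (M := B),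
      Module.finrank_zero_of_subsingleton (R := K) (M := A)]
    simp
  · rw [← Module.finrank_mul_finrank K B A]
    obtain ⟨p⟩ : Nonempty (PrimeSpectrum B) := inferInstance
    rw [← hB p, Module.rankAtStalk_eq_finrank_of_free]
    simp [mul_comm]

/-- The degree is multiplicative. -/
theorem finrank_comp {X Y Z : Scheme.{u}} (f : X ⟶ Y) (g : Y ⟶ Z) [IsFinite f] [Flat f] [IsFinite g] [Flat g]
    (d : ℕ) (hd : ∀ y, f.finrank y = d) (z : Z) : (f ≫ g).finrank z = d * g.finrank z := by
  let a := Z.fromSpecResidueField z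
  let pt : Spec (Z.residueField z) := IsLocalRing.closedPoint _
  haveI : IsAffine (pullback g a) := isAffine_of_isAffineHom (pullback.snd g a)
  haveI : IsAffine (pullback f (pullback.fst g a)) :=
    isAffine_of_isAffineHom (pullback.snd f (pullback.fst g a))
  have sq : IsPullback (pullback.fst f (pullback.fst g a))
      (pullback.snd f (pullback.fst g a) ≫ pullback.snd g a) (f ≫ g) a :=
    (IsPullback.of_hasPullback f (pullback.fst g a)).paste_vert (IsPullback.of_hasPullback g a)
  have hz : a pt = z := Z.fromSpecResidueField_apply z _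
  rw [← hz, ← Scheme.Hom.finrank_pullback_snd g a pt, ← Scheme.Hom.finrank_of_isPullback _ _ _ _ sq pt]
  set f' := pullback.snd f (pullback.fst g a)
  set g' := pullback.snd g a
  have hd' : ∀ y, f'.finrank y = d := fun y => (Scheme.Hom.finrank_pullback_snd f _ y).trans (hd _)
  let Yk := pullback g a
  let Xk := pullback f (pullback.fst g a)
  obtain ⟨φ, hφ⟩ := Spec.map_surjective (Xk.isoSpec.inv ≫ f' ≫ Yk.isoSpec.hom)
  obtain ⟨ρ, hρ⟩ := Spec.map_surjective (Yk.isoSpec.inv ≫ g')
  haveI i1 : IsFinite (Spec.map φ) := by rw [hφ]; infer_instance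
  haveI i2 : Flat (Spec.map φ) := by rw [hφ]; infer_instance
  haveI i3 : IsFinite (Spec.map ρ) := by rw [hρ]; infer_instance
  have hd'' : ∀ y, (Spec.map φ).finrank y = d := fun y => by
    have sq2 : IsPullback Xk.isoSpec.inv (Spec.map φ) f' Yk.isoSpec.inv :=
      IsPullback.of_horiz_isIso ⟨by rw [hφ]; simp⟩
    rw [Scheme.Hom.finrank_of_isPullback _ _ _ _ sq2 y]
    exact hd' _
  have hg : g' = Yk.isoSpec.hom ≫ Spec.map ρ := by rw [hρ, Iso.hom_inv_id_assoc]
  have hfg : f' ≫ g' = Xk.isoSpec.hom ≫ Spec.map φ ≫ Spec.map ρ := by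
    rw [hφ, hρ]; simp
  haveI : IsFinite (Spec.map φ ≫ Spec.map ρ) := inferInstance
  haveI : Flat (Spec.map ρ) := by rw [hρ]; infer_instance
  rw [hfg, Scheme.Hom.finrank_comp_left_of_isIso Xk.isoSpec.hom, hg,
    Scheme.Hom.finrank_comp_left_of_isIso Yk.isoSpec.hom]
  exact finrank_comp_spec (K := Z.residueField z) ρ φ i3 i1 i2 d hd'' pt

theorem flat_of_fppf_comp {W X Y : Scheme.{u}} (q : W ⟶ X) (f : X ⟶ Y) [Flat q] [Surjective q] [Flat (q ≫ f)] :
    Flat f := by
  refine Flat.of_stalkMap f fun x => ?_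
  obtain ⟨w, rfl⟩ := q.surjective x
  exact Descend.flat_stalkMap_of_comp q f w (Flat.stalkMap q w) (Flat.stalkMap (q ≫ f) w)

/-- A morphism of finite locally free schemes of degrees `d * e` and `e` whose kernel pair has degree `d`
is finite locally free of degree `d` and surjective. -/
theorem finLocFreeOfDeg_of_kernelPair {X Y S : Scheme.{u}} [IsLocallyNoetherian S] (f : X ⟶ Y) (p : Y ⟶ S) {d e : ℕ}
    (hX : Mor2.IsFinLocFreeOfDeg (d * e) (f ≫ p)) (hY : Mor2.IsFinLocFreeOfDeg e p)
    (hfin : IsFinite (pullback.fst f f)) (hflat : Flat (pullback.fst f f))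
    (hdeg : ∀ x, (pullback.fst f f).finrank x = d) (hd : d ≠ 0) :
    Mor2.IsFinLocFreeOfDeg d f ∧ Surjective f := by
  haveI := hX.1.1; haveI := hX.1.2.1; haveI := hX.1.2.2
  haveI := hY.1.1; haveI := hY.1.2.1; haveI := hY.1.2.2
  haveI : IsFinite f := IsFinite.of_comp f p
  haveI : IsLocallyNoetherian Y := LocallyOfFiniteType.isLocallyNoetherian p
  haveI : LocallyOfFinitePresentation f := NagataCurve13.lfp_of_noetherian f
  haveI := hfin; haveI := hflat
  obtain ⟨Q, q, m, hs, hqf, hqp, hm, rfl⟩ := MonoFact19.exists_factor f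
  haveI := hs; haveI := hqf; haveI := hqp; haveI := hm
  have sq : IsPullback (pullback.fst (q ≫ m) (q ≫ m)) (pullback.snd (q ≫ m) (q ≫ m)) q q :=
    ⟨⟨(cancel_mono m).1 (by simpa only [Category.assoc] using pullback.condition (f := q ≫ m) (g := q ≫ m))⟩,
      ⟨PullbackCone.IsLimit.mk _
      (fun c => pullback.lift c.fst c.snd (by rw [← Category.assoc, c.condition, Category.assoc]))
      (fun c => pullback.lift_fst _ _ _) (fun c => pullback.lift_snd _ _ _)
      fun c u h1 h2 => pullback.hom_ext (h1.trans (pullback.lift_fst _ _ _).symm) (h2.trans (pullback.lift_snd _ _ _).symm)⟩⟩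
  haveI : QuasiCompact q := QuasiCompact.of_comp q m
  haveI hqfin : IsFinite q := by
    haveI := FpqcDesc.descendsAlong_isFinite.{u}
    exact MorphismProperty.of_isPullback_of_descendsAlong (P := @IsFinite)
      (Q := (@Surjective ⊓ @Flat ⊓ @QuasiCompact : MorphismProperty Scheme.{u})) sq
      ⟨⟨inferInstance, inferInstance⟩, inferInstance⟩ hfin
  have hqd : ∀ y, q.finrank y = d := by
    intro y
    obtain ⟨x, rfl⟩ := q.surjective y
    rw [← hdeg x, Scheme.Hom.finrank_of_isPullback _ _ _ _ sq.flip x]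
  haveI : LocallyOfFiniteType m :=
    AlgSpDescent.locallyOfFiniteType_of_fppf_comp q m inferInstance inferInstance inferInstance inferInstance
  haveI : UniversallyClosed m := UniversallyClosed.of_comp_surjective q m
  haveI : IsProper m := {}
  haveI hci : IsClosedImmersion m := (IsClosedImmersion.iff_isProper_and_mono m).2 ⟨inferInstance, inferInstance⟩
  haveI : Flat (q ≫ m ≫ p) := by rw [← Category.assoc]; infer_instance
  haveI : Flat (m ≫ p) := flat_of_fppf_comp q (m ≫ p)
  haveI : LocallyOfFinitePresentation (m ≫ p) := NagataCurve13.lfp_of_noetherian _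
  haveI : IsIso m := by
    refine GrpdEt19.isIso_of_deg (d := e) m p ⟨⟨inferInstance, inferInstance, inferInstance⟩, fun z => ?_⟩ hY
    have h := finrank_comp q (m ≫ p) d hqd z
    rw [← Category.assoc] at h
    rw [hX.2 z] at h
    exact (Nat.eq_of_mul_eq_mul_left (Nat.pos_of_ne_zero hd) h).symm
  refine ⟨⟨⟨inferInstance, inferInstance, inferInstance⟩, fun y => ?_⟩, inferInstance⟩
  have sq' : IsPullback (𝟙 X) q (q ≫ m) m := IsPullback.of_horiz_isIso ⟨by simp⟩
  obtain ⟨y', rfl⟩ := m.surjective y
  rw [← Scheme.Hom.finrank_of_isPullback _ _ _ _ sq' y']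
  exact hqd y'

end Groth.Agent.BTProj23
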